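import Groth.Agent.EtNorm.Basic
import Groth.Agent.UnramMisc.QFSmooth
import Mathlib

/-! # The etale Neron model as an open of a normalization -/

universe u

open CategoryTheory Limits AlgebraicGeometry TopologicalSpace

set_option backward.isDefEq.respectTransparency false
set_option backward.isDefEq.respectTransparency.types false
set_option linter.style.haveILetI false

noncomputable section

namespace Groth.Agent.EtNorm

/-- The extension property for an open of the smooth locus of a finite normal cover. -/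
theorem hasExt_open {S T : Scheme.{u}} [IsLocallyNoetherian S] (hS : Pi1.IsNormalScheme S)
    (U : S.Opens) (hU : CInt.IsSchematicallyDense U) (π : T ⟶ S) [IsFinite π]
    [LocallyOfFinitePresentation π] (hT : Pi1.IsNormalScheme T) (N : T.Opens)
    (hNle : N ≤ π.smoothLocus)
    (hN : ∀ t, t ∈ π.smoothLocus → t ∉ N → t ∈ closure ((π ⁻¹ᵁ U : Set T) \ (N : Set T))) :
    NmpLocalize.HasExt U (N.ι ≫ π) := by
  haveI : IsSeparated (N.ι ≫ π) := inferInstance
  refine ⟨fun {Z} q _ a b ha hb hab => ?_, fun {Z} q _ h hh => ?_⟩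
  · exact NmpDescent.ext_dense q (N.ι ≫ π) U hU a b (ha.trans hb.symm) ha hab
  haveI : IsLocallyNoetherian Z := LocallyOfFiniteType.isLocallyNoetherian q
  haveI : IsLocallyNoetherian T := LocallyOfFiniteType.isLocallyNoetherian π
  haveI : IsLocallyNoetherian (pullback π q) :=
    LocallyOfFiniteType.isLocallyNoetherian (pullback.fst π q)
  have hZ := NmpFinite.isNormalScheme_of_smooth hS q
  have hW := NmpFinite.isNormalScheme_of_smooth hT (pullback.fst π q)
  let O := q ⁻¹ᵁ U
  have hOd : Dense (O : Set Z) := by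
    haveI : IsSchemeTheoreticallyDominant O.ι :=
      ⟨(AlgSpDec.SchDenseFacts.iff_ker_eq_bot O).1 (FlatBirLib.preimage_of_flat q U hU)⟩
    have := O.ι.denseRange
    rwa [DenseRange, Scheme.Opens.range_ι] at this
  let v : O.toScheme ⟶ pullback π q := pullback.lift (h ≫ N.ι) O.ι (by
    rw [Category.assoc]; exact hh)
  haveI : LocallyQuasiFinite (pullback.snd π q) := inferInstance
  have hex : ValuativeCriterion.Existence (pullback.snd π q) := by
    have h1 : UniversallyClosed (pullback.snd π q) := inferInstance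
    rw [UniversallyClosed.eq_valuativeCriterion] at h1
    exact h1.1
  obtain ⟨w, hw, hwO⟩ := RatSecExt.exists_section (pullback.snd π q) hZ hex O hOd v
    (pullback.lift_snd _ _ _)
  have hmem : ∀ z, (w ≫ pullback.fst π q) z ∈ N := fun z => by
    obtain ⟨C, hzC, hC⟩ := NmpFinite.exists_isOpenImmersion_near_section hW (pullback.snd π q) w hw z
    haveI := hC
    haveI : Flat q := inferInstance
    obtain ⟨V, hzV, hV⟩ := FlatPtDesc.etale_nhd_descend π q (w z) (Flat.stalkMap q _)
      ⟨C, hzC, inferInstance⟩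
    have hsm : pullback.fst π q (w z) ∈ π.smoothLocus :=
      (FlatPtDesc.exists_smooth_nhd_iff π _).1 ⟨V, hzV, inferInstance⟩
    by_contra hz
    have hcl := hN _ hsm hz
    -- a neighbourhood of `w z` on which `snd` is injective and `w ≫ snd` stays
    let C' : (pullback π q).Opens := C ⊓ (pullback.snd π q) ⁻¹ᵁ (w ⁻¹ᵁ C)
    have hwz : pullback.snd π q (w z) = z := by
      rw [← Scheme.Hom.comp_apply, hw]; rfl
    have hzC' : w z ∈ C' := ⟨hzC, by
      show w (pullback.snd π q (w z)) ∈ C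
      rw [hwz]; exact hzC⟩
    have hopen : IsOpen (pullback.fst π q '' (C' : Set _)) :=
      (pullback.fst π q).isOpenMap _ C'.isOpen
    obtain ⟨t, ⟨c, hc, rfl⟩, htU, htN⟩ := mem_closure_iff.1 hcl _ hopen ⟨w z, hzC', rfl⟩
    have hcw : c = w (pullback.snd π q c) := by
      have := (C.ι ≫ pullback.snd π q).isOpenEmbedding.injective
        (a₁ := ⟨c, hc.1⟩) (a₂ := ⟨w (pullback.snd π q c), hc.2⟩) (by
          show pullback.snd π q c = pullback.snd π q (w (pullback.snd π q c))
          rw [← Scheme.Hom.comp_apply w, hw]; rfl)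
      exact congrArg Subtype.val this
    have hcO : pullback.snd π q c ∈ O := by
      show q (pullback.snd π q c) ∈ U
      rw [← Scheme.Hom.comp_apply, ← pullback.condition, Scheme.Hom.comp_apply]
      exact htU
    have heq : O.ι ≫ w ≫ pullback.fst π q = h ≫ N.ι := by
      rw [← Category.assoc, hwO]; exact pullback.lift_fst _ _ _
    have e : pullback.fst π q c = N.ι (h ⟨_, hcO⟩) :=
      (show pullback.fst π q c = (O.ι ≫ w ≫ pullback.fst π q) ⟨_, hcO⟩ from
        congrArg (pullback.fst π q) hcw).trans (by rw [heq]; rfl)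
    exact htN (by rw [e]; exact (h ⟨_, hcO⟩).2)
  have hrg : Set.range (w ≫ pullback.fst π q) ⊆ Set.range N.ι := by
    rw [Scheme.Opens.range_ι]
    rintro _ ⟨z, rfl⟩
    exact hmem z
  let d := IsOpenImmersion.lift N.ι _ hrg
  have hd : d ≫ N.ι = w ≫ pullback.fst π q := IsOpenImmersion.lift_fac _ _ _
  refine ⟨d, ?_, ?_⟩
  · rw [reassoc_of% hd, pullback.condition, reassoc_of% hw]
  · rw [← cancel_mono N.ι, Category.assoc, hd, ← Category.assoc, hwO]
    exact pullback.lift_fst _ _ _

/-- Existence of the etale model with the extension property. -/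
theorem exists_neron {S : Scheme.{u}} [IsLocallyNoetherian S] (hS : Pi1.IsNormalScheme S)
    (S₀ : S.Opens) (hS₀ : CInt.IsSchematicallyDense S₀) (N₀ : Over (S₀ : Scheme.{u}))
    [Etale N₀.hom] [IsSeparated N₀.hom] [QuasiCompact N₀.hom] :
    ∃ (N : Over S) (_ : (Over.pullback S₀.ι).obj N ≅ N₀), Etale N.hom ∧ IsSeparated N.hom ∧
      QuasiCompact N.hom ∧ NmpLocalize.HasExt S₀ N.hom := by
  let f : N₀.left ⟶ S := N₀.hom ≫ S₀.ι
  haveI : QuasiCompact f := inferInstanceAs (QuasiCompact (N₀.hom ≫ S₀.ι))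
  haveI : Etale f := inferInstanceAs (Etale (N₀.hom ≫ S₀.ι))
  haveI : IsSeparated f := inferInstanceAs (IsSeparated (N₀.hom ≫ S₀.ι))
  haveI : LocallyQuasiFinite f := AlgSpLib.locallyQuasiFinite_of_formallyUnramified f
  obtain ⟨hfin, hT⟩ := isFinite_isNormal f hS
  haveI := hfin
  let j := f.toNormalization
  let π := f.fromNormalization
  haveI : IsLocallyNoetherian f.normalization := LocallyOfFiniteType.isLocallyNoetherian π
  haveI : LocallyOfFinitePresentation π := inferInstance
  haveI : IsOpenImmersion j := inferInstance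
  have hjπ : j ≫ π = f := f.toNormalization_fromNormalization
  have hjU : ∀ a, π (j a) ∈ S₀ := fun a => by
    rw [← Scheme.Hom.comp_apply, hjπ]; exact (N₀.hom a).2
  have hjsm : ∀ a, j a ∈ π.smoothLocus := fun a => by
    have h1 : j ⁻¹ᵁ π.smoothLocus = (j ≫ π).smoothLocus := Scheme.Hom.preimage_smoothLocus_eq _ _
    have h2 : (j ≫ π).smoothLocus = ⊤ := by
      rw [Scheme.Hom.smoothLocus_eq_top_iff, hjπ]; infer_instance
    show a ∈ j ⁻¹ᵁ π.smoothLocus
    rw [h1, h2]; trivial
  let F : Set f.normalization := (π ⁻¹ᵁ S₀ : Set f.normalization) \ Set.range j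
  let N : f.normalization.Opens :=
    π.smoothLocus ⊓ ⟨(closure F)ᶜ, isClosed_closure.isOpen_compl⟩
  have hjN : ∀ a, j a ∈ N := fun a => ⟨hjsm a, fun hcl => by
    obtain ⟨t, ht, htF⟩ := mem_closure_iff.1 hcl _ j.isOpenEmbedding.isOpen_range ⟨a, rfl⟩
    exact htF.2 ht⟩
  have hNU : ∀ t, t ∈ N → π t ∈ S₀ → t ∈ Set.range j := fun t ht htU => by
    by_contra h
    exact ht.2 (subset_closure ⟨htU, h⟩)
  have hext := hasExt_open hS S₀ hS₀ π hT N inf_le_left fun t ht htN => by
    have hcl : t ∈ closure F := by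
      by_contra h
      exact htN ⟨ht, h⟩
    refine closure_mono (fun x hx => ?_) hcl
    exact ⟨hx.1, fun hxN => hxN.2 (subset_closure hx)⟩
  haveI : Smooth (N.ι ≫ π) := by
    rw [← Scheme.Hom.smoothLocus_eq_top_iff, ← Scheme.Hom.preimage_smoothLocus_eq, eq_top_iff]
    exact fun t _ => t.2.1
  haveI : LocallyQuasiFinite (N.ι ≫ π) := inferInstance
  haveI : QuasiCompact N.ι := inferInstance
  let l : N₀.left ⟶ N.toScheme := IsOpenImmersion.lift N.ι j (by
    rw [Scheme.Opens.range_ι]; rintro _ ⟨a, rfl⟩; exact hjN a)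
  have hl : l ≫ N.ι = j := IsOpenImmersion.lift_fac _ _ _
  haveI : IsOpenImmersion l := by
    haveI : IsOpenImmersion (l ≫ N.ι) := by rw [hl]; infer_instance
    exact IsOpenImmersion.of_comp l N.ι
  have hlf : l ≫ N.ι ≫ π = N₀.hom ≫ S₀.ι := by rw [reassoc_of% hl, hjπ]
  have hrange : Set.range (pullback.fst (N.ι ≫ π) S₀.ι) = Set.range l := by
    rw [IsOpenImmersion.range_pullbackFst, Scheme.Opens.opensRange_ι]
    ext t
    constructor
    · intro ht
      obtain ⟨a, ha⟩ := hNU _ t.2 ht
      refine ⟨a, N.ι.isOpenEmbedding.injective ?_⟩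
      rw [← Scheme.Hom.comp_apply, hl]; exact ha
    · rintro ⟨a, rfl⟩
      show π (N.ι (l a)) ∈ S₀
      rw [← Scheme.Hom.comp_apply l, hl]
      exact hjU a
  let e := IsOpenImmersion.isoOfRangeEq (pullback.fst (N.ι ≫ π) S₀.ι) l hrange
  refine ⟨Over.mk (N.ι ≫ π), Over.isoMk e ?_,
    UnramMisc.etale_of_smooth_of_locallyQuasiFinite (N.ι ≫ π), inferInstanceAs (IsSeparated (N.ι ≫ π)),
    inferInstanceAs (QuasiCompact (N.ι ≫ π)), hext⟩
  rw [← cancel_mono S₀.ι]
  show (e.hom ≫ N₀.hom) ≫ S₀.ι = pullback.snd (N.ι ≫ π) S₀.ι ≫ S₀.ι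
  rw [Category.assoc, ← hlf, ← Category.assoc, IsOpenImmersion.isoOfRangeEq_hom_fac,
    pullback.condition]

end Groth.Agent.EtNorm
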