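import Groth.Prelude.Def_Neron
import Groth.Agent.Neron6.Over
import Groth.Agent.EtNorm.Neron
import Groth.Agent.WeilExt.Dedekind
import Mathlib

/-! # Etale Neron models of finite etale schemes over the fraction field of a Dedekind domain -/

universe u

open CategoryTheory Limits AlgebraicGeometry TopologicalSpace TensorProduct

set_option backward.isDefEq.respectTransparency false
set_option backward.isDefEq.respectTransparency.types false
set_option linter.style.haveILetI false

noncomputable section

namespace Groth.Agent.EtNorm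

/-- Extension of rational maps into the smooth locus of a finite normal cover. -/
theorem exists_ext_dense {S T Z : Scheme.{u}} [IsLocallyNoetherian S] (hS : Pi1.IsNormalScheme S)
    (π : T ⟶ S) [IsFinite π] [LocallyOfFinitePresentation π] (hT : Pi1.IsNormalScheme T)
    (q : Z ⟶ S) [Smooth q] (O : Z.Opens) (hO : Dense (O : Set Z))
    (v : O.toScheme ⟶ π.smoothLocus.toScheme) (hv : v ≫ π.smoothLocus.ι ≫ π = O.ι ≫ q) :
    ∃ d : Z ⟶ π.smoothLocus.toScheme, d ≫ π.smoothLocus.ι ≫ π = q ∧ O.ι ≫ d = v := by
  haveI : IsLocallyNoetherian Z := LocallyOfFiniteType.isLocallyNoetherian q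
  haveI : IsLocallyNoetherian T := LocallyOfFiniteType.isLocallyNoetherian π
  haveI : IsLocallyNoetherian (pullback π q) :=
    LocallyOfFiniteType.isLocallyNoetherian (pullback.fst π q)
  have hZ := NmpFinite.isNormalScheme_of_smooth hS q
  have hW := NmpFinite.isNormalScheme_of_smooth hT (pullback.fst π q)
  let v' : O.toScheme ⟶ pullback π q := pullback.lift (v ≫ π.smoothLocus.ι) O.ι (by
    rw [Category.assoc]; exact hv)
  haveI : LocallyQuasiFinite (pullback.snd π q) := inferInstance
  have hex : ValuativeCriterion.Existence (pullback.snd π q) := by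
    have h1 : UniversallyClosed (pullback.snd π q) := inferInstance
    rw [UniversallyClosed.eq_valuativeCriterion] at h1
    exact h1.1
  obtain ⟨w, hw, hwO⟩ := RatSecExt.exists_section (pullback.snd π q) hZ hex O hO v'
    (pullback.lift_snd _ _ _)
  have hmem : ∀ z, (w ≫ pullback.fst π q) z ∈ π.smoothLocus := fun z => by
    obtain ⟨C, hzC, hC⟩ := NmpFinite.exists_isOpenImmersion_near_section hW (pullback.snd π q) w hw z
    haveI := hC
    haveI : Flat q := inferInstance
    obtain ⟨V, hzV, hV⟩ := FlatPtDesc.etale_nhd_descend π q (w z) (Flat.stalkMap q _)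
      ⟨C, hzC, inferInstance⟩
    exact (FlatPtDesc.exists_smooth_nhd_iff π _).1 ⟨V, hzV, inferInstance⟩
  have hrg : Set.range (w ≫ pullback.fst π q) ⊆ Set.range π.smoothLocus.ι := by
    rw [Scheme.Opens.range_ι]
    rintro _ ⟨z, rfl⟩
    exact hmem z
  let d := IsOpenImmersion.lift π.smoothLocus.ι _ hrg
  have hd : d ≫ π.smoothLocus.ι = w ≫ pullback.fst π q := IsOpenImmersion.lift_fac _ _ _
  refine ⟨d, ?_, ?_⟩
  · rw [reassoc_of% hd, pullback.condition, reassoc_of% hw]
  · rw [← cancel_mono π.smoothLocus.ι, Category.assoc, hd, ← Category.assoc, hwO]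
    exact pullback.lift_fst _ _ _

/-- Structure of the integral closure of `R` in a finite étale algebra over its fraction field. -/
theorem integralClosure_etaleAlgebra (R C : Type u) [CommRing R] [IsDedekindDomain R] [CommRing C]
    [Algebra (FractionRing R) C] [Algebra R C] [IsScalarTower R (FractionRing R) C]
    [Module.Finite (FractionRing R) C] [Algebra.Etale (FractionRing R) C] :
    Module.Finite R (integralClosure R C) ∧ EGA4.IsNormalRing (integralClosure R C) := by
  let K := FractionRing R
  haveI : IsArtinianRing C := IsArtinianRing.of_finite K C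
  haveI : IsReduced C := Algebra.FormallyUnramified.isReduced_of_field K C
  haveI : Finite (MaximalSpectrum C) := inferInstance
  letI : ∀ I : MaximalSpectrum C, Field (C ⧸ I.asIdeal) := fun I =>
    haveI := I.isMaximal; Ideal.Quotient.field _
  let e₀ := IsArtinianRing.equivPi C
  let e₁ : C ≃ₐ[R] ∀ I : MaximalSpectrum C, C ⧸ I.asIdeal := e₀.restrictScalars R
  let res : ∀ I : MaximalSpectrum C, C →ₐ[R] C ⧸ I.asIdeal := fun I =>
    (Pi.evalAlgHom R _ I).comp e₁.toAlgHom
  have hbij : Function.Bijective (fun c I => res I c) := e₁.bijective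
  have hfin : ∀ I : MaximalSpectrum C, Module.Finite R (integralClosure R (C ⧸ I.asIdeal)) := fun I => by
    haveI : IsDomain (C ⧸ I.asIdeal) := Field.isDomain
    haveI : Algebra.FormallyUnramified R K :=
      Algebra.FormallyUnramified.of_isLocalization (nonZeroDivisors R)
    haveI : Algebra.FormallyUnramified R C := Algebra.FormallyUnramified.comp R K C
    haveI : Algebra.FormallyUnramified C (C ⧸ I.asIdeal) :=
      Algebra.FormallyUnramified.of_surjective (Algebra.ofId _ _) Ideal.Quotient.mk_surjective
    haveI : Algebra.FormallyUnramified R (C ⧸ I.asIdeal) :=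
      Algebra.FormallyUnramified.comp R C (C ⧸ I.asIdeal)
    haveI : Algebra.EssFiniteType R K := Algebra.EssFiniteType.of_isLocalization K (nonZeroDivisors R)
    haveI : Algebra.EssFiniteType R C := Algebra.EssFiniteType.comp R K C
    haveI : Algebra.EssFiniteType R (C ⧸ I.asIdeal) := Algebra.EssFiniteType.comp R C (C ⧸ I.asIdeal)
    refine finite_integralClosure R (C ⧸ I.asIdeal) ?_
    rw [IsScalarTower.algebraMap_eq R K (C ⧸ I.asIdeal)]
    exact (algebraMap K (C ⧸ I.asIdeal)).injective.comp (IsFractionRing.injective R K)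
  let Φ : integralClosure R C →+* ∀ I : MaximalSpectrum C, integralClosure R (C ⧸ I.asIdeal) :=
    RingHom.pi fun I => ((res I).comp (integralClosure R C).val).toRingHom.codRestrict
      (integralClosure R (C ⧸ I.asIdeal)).toSubring fun z => z.2.map (res I)
  have hΦ : Function.Bijective Φ := by
    refine ⟨fun a b h => Subtype.ext (hbij.1 (funext fun i => congrArg Subtype.val (congrFun h i))),
      fun s => ?_⟩
    obtain ⟨c, hc⟩ := hbij.2 fun i => (s i).1
    haveI := Fintype.ofFinite (MaximalSpectrum C)
    choose P hP hPs using fun i => (s i).2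
    have hcint : IsIntegral R c := by
      refine ⟨∏ i, P i, Polynomial.monic_prod_of_monic _ _ fun i _ => hP i, hbij.1 (funext fun i => ?_)⟩
      show res i (Polynomial.eval₂ (algebraMap R C) c _) = res i 0
      rw [map_zero, ← Polynomial.aeval_def, ← Polynomial.aeval_algHom_apply,
        show res i c = (s i).1 from congrFun hc i, map_prod]
      exact Finset.prod_eq_zero (Finset.mem_univ i) (hPs i)
    exact ⟨⟨c, hcint⟩, funext fun i => Subtype.ext (congrFun hc i)⟩
  refine ⟨?_, FlatLoc6.isNormalRing_of_ringEquiv (RingEquiv.ofBijective Φ hΦ).symm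
    (S6279.result _ fun I p _ => ?_)⟩
  · haveI := hfin
    let eA : integralClosure R C →ₗ[R] ∀ I : MaximalSpectrum C, integralClosure R (C ⧸ I.asIdeal) :=
      LinearMap.pi fun I => ((res I).comp (integralClosure R C).val).toLinearMap.codRestrict
        (integralClosure R (C ⧸ I.asIdeal)).toSubmodule fun z => z.2.map (res I)
    exact Module.Finite.of_injective eA fun a b h =>
      Subtype.ext (hbij.1 (funext fun i => congrArg Subtype.val (congrFun h i)))
  · haveI : IsDomain (C ⧸ I.asIdeal) := Field.isDomain
    haveI : IsIntegrallyClosed (C ⧸ I.asIdeal) := inferInstance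
    haveI := isIntegrallyClosed_integralClosure R (C ⧸ I.asIdeal)
    exact ⟨IsLocalization.isDomain_localization p.primeCompl_le_nonZeroDivisors,
      isIntegrallyClosed_of_isLocalization _ p.primeCompl p.primeCompl_le_nonZeroDivisors⟩

/-- The spectrum of a normal ring is normal. -/
theorem isNormalScheme_spec (B : CommRingCat.{u}) (h : EGA4.IsNormalRing B) :
    Pi1.IsNormalScheme (Spec B) := fun s => by
  let p : PrimeSpectrum B := s
  let e : (Spec B).presheaf.stalk s ≃+* Localization.AtPrime p.asIdeal :=
    (IsLocalization.algEquiv p.asIdeal.primeCompl (Localization.AtPrime p.asIdeal)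
      ((Spec.structureSheaf B).presheaf.stalk p)).toRingEquiv.symm
  obtain ⟨hd, hn⟩ := h p.asIdeal
  exact ⟨e.toMulEquiv.isDomain, haveI := hn; IsIntegrallyClosed.of_equiv e.symm⟩

/-- A model of a finite étale scheme over the fraction field: finite, normal, étale along the generic fibre. -/
theorem exists_normal_model (R : Type u) [CommRing R] [IsDedekindDomain R]
    {G : Scheme.{u}} (g : G ⟶ Spec (CommRingCat.of (FractionRing R))) [IsFinite g] [Etale g] :
    ∃ (T : Scheme.{u}) (π : T ⟶ Spec (CommRingCat.of R)) (j : G ⟶ T) (_ : IsFinite π),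
      Pi1.IsNormalScheme T ∧ Flat j ∧ IsPreimmersion j ∧
      IsPullback j g π (Spec.map (CommRingCat.ofHom (algebraMap R (FractionRing R)))) := by
  let K := FractionRing R
  haveI : IsAffine G := isAffine_of_isAffineHom g
  let φ : CommRingCat.of K ⟶ Γ(G, ⊤) := Spec.preimage (G.isoSpec.inv ≫ g)
  have hφ : Spec.map φ = G.isoSpec.inv ≫ g := Spec.map_preimage _
  let C : Type u := Γ(G, ⊤)
  letI : Algebra K C := φ.hom.toAlgebra
  letI : Algebra R C := (φ.hom.comp (algebraMap R K)).toAlgebra
  haveI : IsScalarTower R K C := IsScalarTower.of_algebraMap_eq' rfl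
  haveI : Module.Finite K C :=
    (IsFinite.SpecMap_iff _).1 (show IsFinite (Spec.map φ) by rw [hφ]; infer_instance)
  haveI : Algebra.Etale K C := RingHom.etale_algebraMap.1
    ((HasRingHomProperty.Spec_iff (P := @Etale)).1 (show Etale (Spec.map φ) by rw [hφ]; infer_instance))
  obtain ⟨hfin, hnorm⟩ := integralClosure_etaleAlgebra R C
  let B := integralClosure R C
  let π : Spec (CommRingCat.of B) ⟶ Spec (CommRingCat.of R) :=
    Spec.map (CommRingCat.ofHom (algebraMap R B))
  haveI : IsLocalization (Algebra.algebraMapSubmonoid B (nonZeroDivisors R)) C := by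
    rw [isLocalization_iff]
    refine ⟨?_, fun c => ?_, fun {x y} h => ⟨1, by rw [Subtype.ext h]⟩⟩
    · rintro ⟨_, r, hr, rfl⟩
      show IsUnit (algebraMap B C (algebraMap R B r))
      rw [← IsScalarTower.algebraMap_apply R B C, IsScalarTower.algebraMap_apply R K C]
      exact (IsLocalization.map_units K ⟨r, hr⟩).map _
    · obtain ⟨⟨r, hr⟩, hrc⟩ := IsIntegral.exists_multiple_integral_of_isLocalization
        (nonZeroDivisors R) (Rₘ := K) c (Algebra.IsIntegral.isIntegral (R := K) c)
      refine ⟨⟨⟨r • c, hrc⟩, ⟨algebraMap R B r, r, hr, rfl⟩⟩, ?_⟩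
      show c * algebraMap B C (algebraMap R B r) = r • c
      rw [← IsScalarTower.algebraMap_apply R B C, Algebra.smul_def, mul_comm]
  haveI : Algebra.IsPushout R B K C :=
    Algebra.isPushout_of_isLocalization (nonZeroDivisors R) K B C
  let k : Spec (CommRingCat.of C) ⟶ Spec (CommRingCat.of B) :=
    Spec.map (CommRingCat.ofHom (algebraMap B C))
  have hsq : IsPullback k (Spec.map φ) π (Spec.map (CommRingCat.ofHom (algebraMap R K))) :=
    (CommRingCat.isPushout_of_isPushout R B K C).op.map Scheme.Spec |>.flip
  haveI : IsPreimmersion k :=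
    IsPreimmersion.of_isLocalization (S := C) (Algebra.algebraMapSubmonoid B (nonZeroDivisors R))
  haveI : Flat k :=
    (HasRingHomProperty.Spec_iff (P := @Flat)).2 (RingHom.flat_algebraMap_iff.2
      (IsLocalization.flat C (Algebra.algebraMapSubmonoid B (nonZeroDivisors R))))
  refine ⟨_, π, G.isoSpec.hom ≫ k, (IsFinite.SpecMap_iff _).2 (RingHom.finite_algebraMap.2 hfin),
    isNormalScheme_spec _ hnorm, inferInstance, inferInstance, ?_⟩
  refine hsq.of_iso G.isoSpec.symm (Iso.refl _) (Iso.refl _) (Iso.refl _) ?_ ?_ (by simp) (by simp [K])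
  · simp [k]
  · simp [hφ]

/-- The étale Néron model. -/
theorem exists_neron_dedekind (R : Type u) [CommRing R] [IsDedekindDomain R]
    (G : Over (Spec (CommRingCat.of (FractionRing R)))) [IsFinite G.hom] [Etale G.hom] :
    ∃ (N : Over (Spec (CommRingCat.of R))) (e : (Neron.genericFibre R).obj N ≅ G),
      Neron.IsNeronModelOf R N G e ∧ Etale N.hom ∧ LocallyQuasiFinite N.hom := by
  let S := Spec (CommRingCat.of R)
  haveI : IsDomain (CommRingCat.of R) := inferInstanceAs (IsDomain R)
  haveI : IsDedekindDomain (CommRingCat.of R) := inferInstanceAs (IsDedekindDomain R)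
  haveI : IsNoetherian S := inferInstance
  have hS : Pi1.IsNormalScheme S :=
    WeilExt.isNormalScheme (WeilExt.isRegularLocalRing_stalk_spec (R := R)) (𝟙 S)
  let jK := Spec.map (CommRingCat.ofHom (algebraMap R (FractionRing R)))
  obtain ⟨T, π, j, hfin, hT, hjf, hjp, hsq⟩ := exists_normal_model R G.hom
  haveI := hfin
  haveI := hjf
  haveI := hjp
  haveI : IsLocallyNoetherian T := LocallyOfFiniteType.isLocallyNoetherian π
  haveI : LocallyOfFinitePresentation π := inferInstance
  haveI : IsPreimmersion jK := IsPreimmersion.of_isLocalization (S := FractionRing R) (nonZeroDivisors R)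
  haveI : Flat jK := (HasRingHomProperty.Spec_iff (P := @Flat)).2
    (RingHom.flat_algebraMap_iff.2 (IsLocalization.flat (FractionRing R) (nonZeroDivisors R)))
  have hjsm : ∀ a, j a ∈ π.smoothLocus := fun a => by
    have h1 : ((j ≫ π).stalkMap a).hom.FormallySmooth := by
      rw [Scheme.Hom.stalkMap_congr_hom _ _ hsq.w, Scheme.Hom.stalkMap_comp, CommRingCat.hom_comp]
      haveI := NmpLocalize.isIso_stalkMap_of_flat_preimmersion jK (G.hom a)
      refine (RingHom.FormallySmooth.respectsIso.cancel_left_isIso _ _).2 ?_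
      rw [CommRingCat.hom_comp]
      refine (RingHom.FormallySmooth.respectsIso.cancel_left_isIso _ _).2 ?_
      have hp : G.hom.smoothLocus = ⊤ := G.hom.smoothLocus_eq_top
      rw [← Scheme.Hom.mem_smoothLocus, hp]; trivial
    rw [Scheme.Hom.stalkMap_comp] at h1
    haveI := NmpLocalize.isIso_stalkMap_of_flat_preimmersion j a
    exact ((RingHom.FormallySmooth.respectsIso).cancel_right_isIso (π.stalkMap (j a)) (j.stalkMap a)).1 h1
  let N : Scheme.{u} := π.smoothLocus.toScheme
  let p : N ⟶ S := π.smoothLocus.ι ≫ π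
  haveI : Smooth p := by
    rw [← Scheme.Hom.smoothLocus_eq_top_iff, ← Scheme.Hom.preimage_smoothLocus_eq, eq_top_iff]
    exact fun t _ => t.2
  haveI : IsSeparated p := inferInstanceAs (IsSeparated (π.smoothLocus.ι ≫ π))
  haveI : QuasiCompact p := inferInstanceAs (QuasiCompact (π.smoothLocus.ι ≫ π))
  haveI : LocallyQuasiFinite p := inferInstanceAs (LocallyQuasiFinite (π.smoothLocus.ι ≫ π))
  let l : G.left ⟶ N := IsOpenImmersion.lift π.smoothLocus.ι j (by
    rw [Scheme.Opens.range_ι]; rintro _ ⟨a, rfl⟩; exact hjsm a)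
  have hl : l ≫ π.smoothLocus.ι = j := IsOpenImmersion.lift_fac _ _ _
  have hsqN : IsPullback l G.hom p jK := by
    refine IsPullback.of_isLimit' ⟨by rw [← hsq.w, ← hl, Category.assoc]⟩ ?_
    refine PullbackCone.IsLimit.mk _ (fun s => hsq.lift (s.fst ≫ π.smoothLocus.ι) s.snd (by
        rw [Category.assoc]; exact s.condition)) (fun s => ?_) (fun s => hsq.lift_snd _ _ _)
      (fun s m h1 h2 => ?_)
    · rw [← cancel_mono π.smoothLocus.ι, Category.assoc, hl]
      exact hsq.lift_fst _ _ _
    · apply hsq.hom_ext
      · rw [hsq.lift_fst, ← h1, Category.assoc, hl]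
      · rw [hsq.lift_snd]; exact h2
  let e : (Neron.genericFibre R).obj (Over.mk p) ≅ G :=
    Over.isoMk hsqN.isoPullback.symm hsqN.isoPullback_inv_snd
  refine ⟨Over.mk p, e, ⟨‹Smooth p›, ‹IsSeparated p›, inferInstanceAs (LocallyOfFiniteType p),
    ‹QuasiCompact p›, fun Y hY => ?_⟩, UnramMisc.etale_of_smooth_of_locallyQuasiFinite p, ‹_›⟩
  haveI := hY
  obtain ⟨σ, hσ, hσj⟩ := WeilExt.exists_iso_generic (CommRingCat.of R) (FractionRing R)
  haveI := hσ
  let m : pullback Y.hom (S.fromSpecStalk (genericPoint S)) ⟶ pullback Y.hom jK :=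
    pullback.lift (pullback.fst _ _) (pullback.snd _ _ ≫ σ) (by
      rw [pullback.condition, Category.assoc]; exact congrArg _ hσj.symm)
  haveI : Epi m := by
    let m' : pullback Y.hom jK ⟶ pullback Y.hom (S.fromSpecStalk (genericPoint S)) :=
      pullback.lift (pullback.fst _ _) (pullback.snd _ _ ≫ inv σ) (by
        rw [pullback.condition, Category.assoc]
        congr 1
        rw [IsIso.eq_inv_comp]
        exact hσj)
    have hmm : m' ≫ m = 𝟙 _ := by
      apply pullback.hom_ext
      · rw [Category.assoc, pullback.lift_fst, pullback.lift_fst, Category.id_comp]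
      · rw [Category.assoc, pullback.lift_snd, pullback.lift_snd_assoc, Category.assoc,
          Category.id_comp, IsIso.inv_hom_id, Category.comp_id]
    exact ⟨fun a b h => by
      rw [← Category.id_comp a, ← hmm, Category.assoc, h, ← Category.assoc, hmm, Category.id_comp]⟩
  refine ⟨fun a b hab => ?_, fun h => ?_⟩
  · have h1 : (Neron.genericFibre R).map a = (Neron.genericFibre R).map b := (cancel_mono e.hom).1 hab
    have h2 : pullback.fst Y.hom jK ≫ a.left = pullback.fst Y.hom jK ≫ b.left := by
      rw [← Neron6.pullback_map_fst jK a, ← Neron6.pullback_map_fst jK b]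
      exact congrArg (fun k => k.left ≫ _) h1
    ext1
    refine S15942.ext_of_generic Y.hom p (𝟙 _) a.left b.left
      ((Over.w a).trans (Over.w b).symm) ?_
    have e1 : pullback.snd (pullback.fst Y.hom (S.fromSpecStalk (genericPoint S))) (𝟙 Y.left) =
        pullback.fst _ _ ≫ m ≫ pullback.fst Y.hom jK := by
      rw [pullback.lift_fst, pullback.condition, Category.comp_id]
    refine (congrArg (· ≫ a.left) e1).trans (Eq.trans ?_ (congrArg (· ≫ b.left) e1).symm)
    simp only [Category.assoc, h2]
  · let h0 : pullback Y.hom jK ⟶ N := h.left ≫ l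
    have hh0 : h0 ≫ p = pullback.fst _ _ ≫ Y.hom := by
      rw [Category.assoc, hsqN.w, ← Category.assoc, pullback.condition]
      exact congrArg (· ≫ jK) (Over.w h)
    obtain ⟨U, v, hUd, hrU, hv, hv0⟩ := WeilExt.exists_spread_generic Y.hom p (m ≫ h0) (by
      rw [Category.assoc, hh0, pullback.lift_fst_assoc])
    obtain ⟨d, hd, hdU⟩ := exists_ext_dense hS π hT Y.hom U hUd v hv
    refine ⟨Over.homMk d hd, ?_⟩
    have hfac : pullback.fst Y.hom jK ≫ d = h0 := by
      rw [← cancel_epi m, ← Category.assoc, pullback.lift_fst]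
      let b := IsOpenImmersion.lift U.ι (pullback.fst Y.hom (S.fromSpecStalk (genericPoint S)))
        (by rw [Scheme.Opens.range_ι]; exact hrU)
      have hb : b ≫ U.ι = pullback.fst _ _ := IsOpenImmersion.lift_fac _ _ _
      have hv1 := hv0 (𝟙 _) b ((Category.id_comp _).trans hb.symm)
      rw [Category.id_comp] at hv1
      rw [← hb, Category.assoc, hdU, hv1]
    rw [← Iso.eq_comp_inv]
    ext1
    refine pullback.hom_ext ?_ ((Over.w _).trans (Over.w _).symm)
    rw [Neron6.pullback_map_fst]
    refine hfac.trans ?_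
    show h.left ≫ l = (h.left ≫ hsqN.isoPullback.hom) ≫ pullback.fst p jK
    rw [Category.assoc, hsqN.isoPullback_hom_fst]

end Groth.Agent.EtNorm
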