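import Groth.Prelude.Def_Pi1
import Groth.Agent.S4647
import Groth.Agent.S6279
import Groth.Agent.SchTop.Closed
import Groth.Agent.Triage.NormInX
import Groth.Agent.FlatLoc6.NormalFibre
import Groth.Agent.NmpFinite.Basic
import Mathlib

/-! # Relative normalization in a normal scheme étale over a normal base -/

universe u

open CategoryTheory Limits AlgebraicGeometry TopologicalSpace

set_option backward.isDefEq.respectTransparency false
set_option backward.isDefEq.respectTransparency.types false
set_option linter.style.haveILetI false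

noncomputable section

set_option maxHeartbeats 400000

namespace Groth.Agent.EtNorm

/-- A noetherian normal scheme is the finite disjoint union of open integral subschemes. -/
theorem exists_components (X : Scheme.{u}) [IsNoetherian X] (hX : Pi1.IsNormalScheme X) :
    ∃ (ι : Type u) (_ : Finite ι) (Z : ι → X.Opens), (∀ i, IsIntegral (Z i).toScheme) ∧
      (∀ i j, i ≠ j → Z i ⊓ Z j = ⊥) ∧ ∀ x, ∃ i, x ∈ Z i := by
  have hfin : (irreducibleComponents X).Finite := NoetherianSpace.finite_irreducibleComponents
  have hd : ∀ x : X, IsDomain (X.presheaf.stalk x) := fun x => (hX x).1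
  haveI : ∀ x : X, _root_.IsReduced (X.presheaf.stalk x) := fun x => by
    haveI := hd x; infer_instance
  haveI : IsReduced X := isReduced_of_isReduced_stalk _
  haveI := hfin.to_subtype
  let Z : irreducibleComponents X → X.Opens :=
    fun C => ⟨C.1, SchTop.isOpen_component_of_finite hfin hd C.2⟩
  refine ⟨irreducibleComponents X, inferInstance, Z, fun C => ?_, fun C D hne => ?_, fun x => ?_⟩
  · haveI : IrreducibleSpace (Z C).toScheme :=
      Subtype.irreducibleSpace (show IsIrreducible (C.1 : Set X) from C.2.1)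
    exact isIntegral_of_irreducibleSpace_of_isReduced _
  · ext x
    refine ⟨fun ⟨h1, h2⟩ => ?_, fun h => h.elim⟩
    haveI := hd x
    exact absurd (Subtype.ext (SchTop.irreducibleComponents_eq x C.2 D.2 h1 h2)) hne
  · obtain ⟨W, hW, hxW⟩ := Set.mem_sUnion.1
      ((sUnion_irreducibleComponents (X := ↥X)).ge (Set.mem_univ x))
    exact ⟨⟨W, hW⟩, hxW⟩

/-- Sections of a normal scheme over an integral open form an integrally closed domain. -/
theorem isIntegrallyClosed_sections {X : Scheme.{u}} (hX : Pi1.IsNormalScheme X) (V : X.Opens)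
    [IsIntegral V.toScheme] : IsDomain Γ(X, V) ∧ IsIntegrallyClosed Γ(X, V) := by
  have hN : ∀ v : V.toScheme, IsIntegrallyClosed (V.toScheme.presheaf.stalk v) := fun v =>
    haveI := (hX (V.ι v)).2
    IsIntegrallyClosed.of_equiv (asIso (V.ι.stalkMap v)).commRingCatIsoToRingEquiv
  let R := Γ(V.toScheme, ⊤)
  have hξ : genericPoint V.toScheme ∈ (⊤ : V.toScheme.Opens) := trivial
  let γ : R →+* V.toScheme.functionField :=
    (V.toScheme.presheaf.germ ⊤ (genericPoint V.toScheme) hξ).hom
  have hγ : Function.Injective γ := germ_injective_of_isIntegral _ _ hξ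
  haveI : IsIntegrallyClosed R := by
    refine (isIntegrallyClosed_iff (FractionRing R)).2 fun {x} hx => ?_
    let ψ : FractionRing R →+* V.toScheme.functionField := IsFractionRing.lift hγ
    have hψ : ψ.comp (algebraMap R (FractionRing R)) = γ :=
      RingHom.ext fun r => IsFractionRing.lift_algebraMap hγ r
    obtain ⟨P, hP, hPx⟩ := hx
    obtain ⟨s, hs⟩ := Triage.NormInX.exists_section hN hξ (ψ x) ⟨P, hP, by
      show Polynomial.eval₂ γ (ψ x) P = 0
      rw [← hψ, ← Polynomial.hom_eval₂, hPx, map_zero]⟩
    exact ⟨s, ψ.injective ((IsFractionRing.lift_algebraMap hγ s).trans hs)⟩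
  let e : R ≃+* Γ(X, V) := V.topIso.commRingCatIsoToRingEquiv
  exact ⟨e.symm.toMulEquiv.isDomain, IsIntegrallyClosed.of_equiv e⟩

/-- A subring integrally closed in an integrally closed domain is integrally closed. -/
theorem isIntegrallyClosed_of_injective {B C : Type u} [CommRing B] [IsDomain B] [CommRing C]
    [IsDomain C] [IsIntegrallyClosed C] [Algebra B C] (hinj : Function.Injective (algebraMap B C))
    (h : ∀ c : C, IsIntegral B c → ∃ b, algebraMap B C b = c) : IsIntegrallyClosed B := by
  refine (isIntegrallyClosed_iff (FractionRing B)).2 fun {x} hx => ?_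
  have hγ : Function.Injective ((algebraMap C (FractionRing C)).comp (algebraMap B C)) :=
    (IsFractionRing.injective C (FractionRing C)).comp hinj
  obtain ⟨ψ, hψ⟩ : ∃ ψ : FractionRing B →+* FractionRing C, ψ.comp (algebraMap B (FractionRing B)) =
      (algebraMap C (FractionRing C)).comp (algebraMap B C) :=
    ⟨IsLocalization.lift (M := nonZeroDivisors B) (S := FractionRing B)
      (g := (algebraMap C (FractionRing C)).comp (algebraMap B C)) (fun y => IsUnit.mk0 _ fun h0 =>
        nonZeroDivisors.coe_ne_zero y (hγ (h0.trans (map_zero _).symm))), IsLocalization.lift_comp _⟩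
  obtain ⟨P, hP, hPx⟩ := hx
  have h1 : IsIntegral C (ψ x) := by
    refine ⟨P.map (algebraMap B C), hP.map _, ?_⟩
    rw [Polynomial.eval₂_map, ← hψ, ← Polynomial.hom_eval₂, hPx, map_zero]
  obtain ⟨c, hc⟩ := IsIntegrallyClosed.isIntegral_iff.1 h1
  have hcint : IsIntegral B c := by
    refine ⟨P, hP, IsFractionRing.injective C (FractionRing C) ?_⟩
    rw [map_zero, Polynomial.hom_eval₂, hc, ← hψ, ← Polynomial.hom_eval₂, hPx, map_zero]
  obtain ⟨b, hb⟩ := h c hcint
  refine ⟨b, ψ.injective ?_⟩
  rw [← hc, ← hb]
  exact RingHom.congr_fun hψ b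

/-- The integral closure in an integrally closed domain is integrally closed. -/
theorem isIntegrallyClosed_integralClosure (A C : Type u) [CommRing A] [CommRing C] [Algebra A C]
    [IsDomain C] [IsIntegrallyClosed C] : IsIntegrallyClosed (integralClosure A C) := by
  refine isIntegrallyClosed_of_injective (C := C) Subtype.val_injective fun c hc => ?_
  exact ⟨⟨c, isIntegral_trans (R := A) (A := integralClosure A C) c hc⟩, rfl⟩

/-- Restriction to a nonempty open inside an integral open is injective. -/
theorem map_injective {X : Scheme.{u}} {Z V : X.Opens} (hle : V ≤ Z) [IsIntegral Z.toScheme]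
    [Nonempty V.toScheme] : Function.Injective (X.presheaf.map (homOfLE hle).op) := by
  intro a b h
  let W : Z.toScheme.Opens := Z.ι ⁻¹ᵁ V
  haveI : Nonempty W := by
    obtain ⟨p⟩ := (inferInstance : Nonempty V.toScheme)
    exact ⟨⟨⟨p.1, hle p.2⟩, p.2⟩⟩
  have hW : Z.ι ''ᵁ W ≤ V := by rintro _ ⟨w, hw, rfl⟩; exact hw
  have key : ∀ x, Z.toScheme.presheaf.map (homOfLE (le_top : W ≤ ⊤)).op (Z.topIso.inv x) =
      X.presheaf.map (homOfLE hW).op (X.presheaf.map (homOfLE hle).op x) := fun x => by
    rw [Scheme.Opens.topIso_inv, Scheme.Opens.toScheme_presheaf_map, ← CommRingCat.comp_apply,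
      ← CommRingCat.comp_apply, ← Functor.map_comp, ← Functor.map_comp]
    rfl
  have h2 := map_injective_of_isIntegral (X := Z.toScheme) (homOfLE (le_top : W ≤ ⊤))
  exact ((ConcreteCategory.isIso_iff_bijective _).1 (inferInstance : IsIso Z.topIso.inv)).1
    (h2 (by rw [key, key, h]))

/-- The integral closure in a domain étale over a normal noetherian domain is finite. -/
theorem finite_integralClosure (A D : Type u) [CommRing A] [IsDomain A] [IsIntegrallyClosed A]
    [IsNoetherianRing A] [CommRing D] [IsDomain D] [Algebra A D] [Algebra.FormallyUnramified A D]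
    [Algebra.EssFiniteType A D] (hinj : Function.Injective (algebraMap A D)) :
    Module.Finite A (integralClosure A D) := by
  let K := FractionRing A
  let L := FractionRing D
  haveI : FaithfulSMul A D := (faithfulSMul_iff_algebraMap_injective A D).2 hinj
  haveI : FaithfulSMul A L := (faithfulSMul_iff_algebraMap_injective A L).2 (by
    rw [IsScalarTower.algebraMap_eq A D L]
    exact (IsFractionRing.injective D L).comp hinj)
  letI : Algebra K L := FractionRing.liftAlgebra A L
  haveI : IsScalarTower A K L := inferInstance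
  haveI : Algebra.FormallyUnramified D L :=
    Algebra.FormallyUnramified.of_isLocalization (nonZeroDivisors D)
  haveI : Algebra.FormallyUnramified A L := Algebra.FormallyUnramified.comp A D L
  haveI : Algebra.FormallyUnramified K L := Algebra.FormallyUnramified.of_restrictScalars A K L
  haveI : Algebra.EssFiniteType D L := Algebra.EssFiniteType.of_isLocalization L (nonZeroDivisors D)
  haveI : Algebra.EssFiniteType A L := Algebra.EssFiniteType.comp A D L
  haveI : Algebra.EssFiniteType K L := Algebra.EssFiniteType.of_comp A K L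
  haveI : Module.Finite K L := Algebra.FormallyUnramified.finite_of_free K L
  haveI : Algebra.IsSeparable K L := Algebra.FormallyUnramified.isSeparable K L
  haveI : Module.Finite A (integralClosure A L) :=
    IsIntegralClosure.finite A K L (integralClosure A L)
  let g : integralClosure A D →ₗ[A] integralClosure A L :=
    ((IsScalarTower.toAlgHom A D L).comp (integralClosure A D).val).toLinearMap.codRestrict
      (integralClosure A L).toSubmodule fun z => z.2.map (IsScalarTower.toAlgHom A D L)
  exact Module.Finite.of_injective g fun a b h =>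
    Subtype.ext (IsFractionRing.injective D L (congrArg Subtype.val h))

/-- A nonzero flat algebra over a domain contains it. -/
theorem injective_of_flat (A D : Type u) [CommRing A] [IsDomain A] [CommRing D] [IsDomain D]
    [Algebra A D] [Module.Flat A D] : Function.Injective (algebraMap A D) := by
  rw [injective_iff_map_eq_zero]
  intro a ha
  by_contra h0
  have hs : IsSMulRegular D a := Module.Flat.isSMulRegular_of_nonZeroDivisors (mem_nonZeroDivisors_of_ne_zero h0)
  have := hs (show a • (1 : D) = a • (0 : D) by rw [Algebra.smul_def, ha, zero_mul, smul_zero])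
  exact one_ne_zero this

variable {X S : Scheme.{u}} (f : X ⟶ S)

/-- Structure of the integral closure of an integral affine open of the base in its preimage. -/
theorem integralClosure_sections [Etale f] [QuasiCompact f] [IsLocallyNoetherian S]
    (hS : Pi1.IsNormalScheme S) (hX : Pi1.IsNormalScheme X) {U : S.Opens} (hU : IsAffineOpen U)
    [IsIntegral U.toScheme] :
    letI := (f.app U).hom.toAlgebra
    Module.Finite Γ(S, U) (integralClosure Γ(S, U) Γ(X, f ⁻¹ᵁ U)) ∧
      EGA4.IsNormalRing (integralClosure Γ(S, U) Γ(X, f ⁻¹ᵁ U)) := by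
  letI := (f.app U).hom.toAlgebra
  let A := Γ(S, U)
  let C := Γ(X, f ⁻¹ᵁ U)
  obtain ⟨hAd, hAi⟩ := isIntegrallyClosed_sections hS U
  haveI := hAd; haveI := hAi
  haveI : IsNoetherianRing A := IsLocallyNoetherian.component_noetherian ⟨U, hU⟩
  haveI : IsLocallyNoetherian X := LocallyOfFiniteType.isLocallyNoetherian f
  let W : X.Opens := f ⁻¹ᵁ U
  haveI : CompactSpace W.toScheme :=
    isCompact_iff_compactSpace.1 (f.isCompact_preimage hU.isCompact)
  haveI : IsLocallyNoetherian W.toScheme := isLocallyNoetherian_of_isOpenImmersion W.ι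
  haveI : IsNoetherian W.toScheme := ⟨⟩
  have hW : Pi1.IsNormalScheme W.toScheme := fun w =>
    ⟨haveI := (hX (W.ι w)).1; (asIso (W.ι.stalkMap w)).commRingCatIsoToRingEquiv.symm.toMulEquiv.isDomain,
      haveI := (hX (W.ι w)).2
      IsIntegrallyClosed.of_equiv (asIso (W.ι.stalkMap w)).commRingCatIsoToRingEquiv⟩
  obtain ⟨ι, _, Z₀, hint₀, hdis₀, hcov₀⟩ := exists_components W.toScheme hW
  let Z : ι → X.Opens := fun i => W.ι ''ᵁ Z₀ i
  have hint : ∀ i, IsIntegral (Z i).toScheme := fun i =>
    haveI := hint₀ i
    IsIntegral.of_isIso (W.ι.isoImage (Z₀ i)).hom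
  have hle : ∀ i, Z i ≤ W := fun i => by
    rintro _ ⟨w, -, rfl⟩; exact w.2
  have hdis : ∀ i j, i ≠ j → Z i ⊓ Z j = ⊥ := fun i j h => by
    ext x
    refine ⟨fun hx => ?_, fun h => h.elim⟩
    obtain ⟨⟨a, ha, rfl⟩, b, hb, hab⟩ := hx
    obtain rfl := W.ι.isOpenEmbedding.injective hab
    exact (hdis₀ i j h).le ⟨ha, hb⟩
  have hcov : W ≤ ⨆ i, Z i := fun x hx => by
    obtain ⟨i, hi⟩ := hcov₀ ⟨x, hx⟩
    exact Opens.mem_iSup.2 ⟨i, ⟨x, hx⟩, hi, rfl⟩
  letI : ∀ i, Algebra A Γ(X, Z i) := fun i => (f.appLE U (Z i) (hle i)).hom.toAlgebra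
  have hZd : ∀ i, IsDomain Γ(X, Z i) ∧ IsIntegrallyClosed Γ(X, Z i) := fun i =>
    haveI := hint i
    isIntegrallyClosed_sections hX (Z i)
  let res : ∀ i, C →ₐ[A] Γ(X, Z i) := fun i =>
    { (X.presheaf.map (homOfLE (hle i)).op).hom with commutes' := fun a => rfl }
  have hres_inj : Function.Injective (fun c i => res i c) := fun a b h => by
    refine X.IsSheaf.section_ext fun y hy => ?_
    obtain ⟨i, hi⟩ := Opens.mem_iSup.1 (hcov hy)
    exact ⟨Z i, hle i, hi, congrFun h i⟩
  have hres_surj : Function.Surjective (fun c i => res i c) := fun s => by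
    obtain ⟨c, hc, -⟩ := TopCat.Sheaf.existsUnique_gluing' X.sheaf Z W (fun i => homOfLE (hle i))
      hcov s fun i j => by
        rcases eq_or_ne i j with rfl | h
        · rfl
        · haveI : Subsingleton Γ(X, Z i ⊓ Z j) := by rw [hdis i j h]; infer_instance
          exact @Subsingleton.elim Γ(X, Z i ⊓ Z j) _ _ _
    exact ⟨c, funext hc⟩
  let Φ : integralClosure A C →+* ∀ i, integralClosure A Γ(X, Z i) :=
    RingHom.pi fun i => ((res i).comp (integralClosure A C).val).toRingHom.codRestrict
      (integralClosure A Γ(X, Z i)).toSubring fun z => z.2.map (res i)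
  have hΦ : Function.Bijective Φ := by
    refine ⟨fun a b h => Subtype.ext (hres_inj (funext fun i => congrArg Subtype.val (congrFun h i))),
      fun s => ?_⟩
    obtain ⟨c, hc⟩ := hres_surj fun i => (s i).1
    haveI : Fintype ι := Fintype.ofFinite ι
    choose P hP hPs using fun i => (s i).2
    have hcint : IsIntegral A c := by
      refine ⟨∏ i, P i, Polynomial.monic_prod_of_monic _ _ fun i _ => hP i, hres_inj (funext fun i => ?_)⟩
      show res i (Polynomial.eval₂ (algebraMap A C) c _) = res i 0
      rw [map_zero, ← Polynomial.aeval_def, ← Polynomial.aeval_algHom_apply,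
        show res i c = (s i).1 from congrFun hc i, map_prod]
      exact Finset.prod_eq_zero (Finset.mem_univ i) (hPs i)
    exact ⟨⟨c, hcint⟩, funext fun i => Subtype.ext (congrFun hc i)⟩
  let e : integralClosure A C ≃+* ∀ i, integralClosure A Γ(X, Z i) := RingEquiv.ofBijective Φ hΦ
  have hfin : ∀ i, Module.Finite A (integralClosure A Γ(X, Z i)) := fun i => by
    haveI := hint i
    obtain ⟨p⟩ : Nonempty (Z i).toScheme := inferInstance
    obtain ⟨_, ⟨(V : X.Opens), hV, rfl⟩, hpV, hVle⟩ :=
      X.isBasis_affineOpens.exists_subset_of_mem_open p.2 (Z i).isOpen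
    haveI : Nonempty V.toScheme := ⟨⟨p.1, hpV⟩⟩
    haveI : IsIntegral V.toScheme := isIntegral_of_isOpenImmersion (X.homOfLE hVle)
    have hVU : V ≤ f ⁻¹ᵁ U := le_trans hVle (hle i)
    letI : Algebra A Γ(X, V) := (f.appLE U V hVU).hom.toAlgebra
    haveI : IsDomain Γ(X, V) := (isIntegrallyClosed_sections hX V).1
    haveI : Algebra.Etale A Γ(X, V) :=
      RingHom.etale_algebraMap.1 (HasRingHomProperty.appLE @Etale f inferInstance ⟨U, hU⟩ ⟨V, hV⟩ hVU)
    haveI := finite_integralClosure A Γ(X, V) (injective_of_flat A Γ(X, V))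
    let r : Γ(X, Z i) →ₐ[A] Γ(X, V) :=
      { (X.presheaf.map (homOfLE hVle).op).hom with
        commutes' := fun a => ConcreteCategory.congr_hom (f.appLE_map (hle i) (homOfLE hVle).op) a }
    have hr : Function.Injective r := map_injective hVle
    let g : integralClosure A Γ(X, Z i) →ₗ[A] integralClosure A Γ(X, V) :=
      (r.comp (integralClosure A Γ(X, Z i)).val).toLinearMap.codRestrict
        (integralClosure A Γ(X, V)).toSubmodule fun z => z.2.map r
    exact Module.Finite.of_injective g fun a b h => Subtype.ext (hr (congrArg Subtype.val h))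
  refine ⟨?_, FlatLoc6.isNormalRing_of_ringEquiv e.symm (S6279.result _ fun i p _ => ?_)⟩
  · haveI := hfin
    let eA : integralClosure A C →ₗ[A] ∀ i, integralClosure A Γ(X, Z i) :=
      LinearMap.pi fun i => ((res i).comp (integralClosure A C).val).toLinearMap.codRestrict
        (integralClosure A Γ(X, Z i)).toSubmodule fun z => z.2.map (res i)
    exact Module.Finite.of_injective eA fun a b h =>
      Subtype.ext (hres_inj (funext fun i => congrArg Subtype.val (congrFun h i)))
  · haveI := (hZd i).1
    haveI := (hZd i).2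
    haveI := isIntegrallyClosed_integralClosure A Γ(X, Z i)
    exact ⟨IsLocalization.isDomain_localization p.primeCompl_le_nonZeroDivisors,
      isIntegrallyClosed_of_isLocalization _ p.primeCompl p.primeCompl_le_nonZeroDivisors⟩

/-- The relative normalization is finite and normal. -/
theorem isFinite_isNormal [Etale f] [QuasiCompact f] [QuasiSeparated f] [IsLocallyNoetherian S]
    (hS : Pi1.IsNormalScheme S) :
    IsFinite f.fromNormalization ∧ Pi1.IsNormalScheme f.normalization := by
  have hX := NmpFinite.isNormalScheme_of_smooth hS f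
  have hcov : ∀ s : S, ∃ U : S.Opens, IsAffineOpen U ∧ s ∈ U ∧ IsIntegral U.toScheme := fun s => by
    obtain ⟨C, hsC, hC⟩ := S4647.result (𝟙 S) (fun x => (hS x).1) (fun y => by
      obtain ⟨_, ⟨A, hA, rfl⟩, hyA, -⟩ := S.isBasis_affineOpens.exists_subset_of_mem_open
        (Set.mem_univ y) isOpen_univ
      haveI := IsLocallyNoetherian.component_noetherian ⟨A, hA⟩
      exact ⟨A, hyA, noetherianSpace_of_isAffineOpen A hA⟩) s
    obtain ⟨_, ⟨(U : S.Opens), hU, rfl⟩, hsU, hUle⟩ :=
      S.isBasis_affineOpens.exists_subset_of_mem_open hsC C.isOpen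
    haveI := hC
    haveI : Nonempty U.toScheme := ⟨⟨s, hsU⟩⟩
    exact ⟨U, hU, hsU, isIntegral_of_isOpenImmersion (S.homOfLE hUle)⟩
  constructor
  · choose U hU hsU hUi using hcov
    have hsup : ⨆ s, U s = ⊤ := eq_top_iff.2 fun s _ => Opens.mem_iSup.2 ⟨s, hsU s⟩
    rw [IsZariskiLocalAtTarget.iff_of_iSup_eq_top (P := @IsFinite) _ hsup]
    intro s
    haveI := hUi s
    letI := (f.app (U s)).hom.toAlgebra
    have h := (integralClosure_sections f hS hX (hU s)).1
    haveI : IsAffine (U s).toScheme := hU s
    rw [HasAffineProperty.iff_of_isAffine (P := @IsFinite)]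
    refine ⟨(hU s).preimage f.fromNormalization, ?_⟩
    have h2 : (f.fromNormalization.app (U s)).hom.Finite := by
      rw [Scheme.Hom.fromNormalization_app f (hU s), CommRingCat.hom_comp]
      exact (RingHom.Finite.of_surjective _
        (ConcreteCategory.bijective_of_isIso (f.normalizationObjIso (hU s)).inv).2).comp
        (RingHom.finite_algebraMap.mpr h)
    rw [morphismRestrict_appTop, CommRingCat.hom_comp]
    refine (RingHom.finite_respectsIso).cancel_right_isIso _ _ |>.2 ?_
    have h3 : ∀ U' : S.Opens, U' = U s → (f.fromNormalization.app U').hom.Finite := by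
      rintro _ rfl; exact h2
    exact h3 _ (Scheme.Opens.ι_image_top _)
  · intro n
    obtain ⟨U, hU, hnU, hUi⟩ := hcov (f.fromNormalization n)
    haveI := hUi
    letI := (f.app U).hom.toAlgebra
    have hV : IsAffineOpen (f.fromNormalization ⁻¹ᵁ U) := hU.preimage _
    have hC := FlatLoc6.isNormalRing_of_ringEquiv
      (f.normalizationObjIso hU).commRingCatIsoToRingEquiv.symm (integralClosure_sections f hS hX hU).2
    obtain ⟨hd, hn⟩ := hC (hV.primeIdealOf ⟨n, hnU⟩).asIdeal
    obtain ⟨e⟩ := SchTop.nonempty_stalk_equiv hV (x := n) hnU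
    exact ⟨MulEquiv.isDomain_iff e.toMulEquiv |>.2 hd, haveI := hn; IsIntegrallyClosed.of_equiv e.symm⟩

end Groth.Agent.EtNorm
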